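import Mathlib
import Groth.Prelude.Def_W4c1btstackcountsChain

/-! Chains of linear maps are classified by their rank arrays. -/

set_option autoImplicit false
set_option linter.style.haveILetI false

namespace RankArrayLib

open Module

section lin

variable {k : Type*} [Field k] {V V' W W' : Type*}
  [AddCommGroup V] [Module k V] [FiniteDimensional k V]
  [AddCommGroup V'] [Module k V'] [FiniteDimensional k V']
  [AddCommGroup W] [Module k W] [FiniteDimensional k W]
  [AddCommGroup W'] [Module k W'] [FiniteDimensional k W']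

omit [FiniteDimensional k V'] in
theorem finrank_map_of_injOn (l : V →ₗ[k] V') (S : Submodule k V) (h : Set.InjOn l S) :
    finrank k (S.map l) = finrank k S := by
  rw [← LinearMap.range_domRestrict]
  exact LinearMap.finrank_range_of_inj fun a b hab => Subtype.ext (h a.2 b.2 hab)

omit [FiniteDimensional k W] in
theorem finrank_map_add_inf_ker (p : V →ₗ[k] W) (U : Submodule k V) :
    finrank k (U.map p) + finrank k (U ⊓ LinearMap.ker p : Submodule k V) = finrank k U := by
  rw [← LinearMap.finrank_range_add_finrank_ker (p.domRestrict U), LinearMap.range_domRestrict]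
  congr 1
  exact LinearEquiv.finrank_eq
    { toFun := fun x => ⟨⟨x.1, x.2.1⟩, x.2.2⟩
      invFun := fun x => ⟨x.1.1, x.1.2, x.2⟩
      map_add' := fun _ _ => rfl
      map_smul' := fun _ _ => rfl
      left_inv := fun _ => rfl
      right_inv := fun _ => rfl }

/-- Extending a compatible isomorphism from a subspace `U` to a bigger subspace `T`. -/
theorem extend_step (p : V →ₗ[k] W) (p' : V' →ₗ[k] W') (φ : W ≃ₗ[k] W')
    {U T : Submodule k V} {U' T' : Submodule k V'} (hUT : U ≤ T) (hUT' : U' ≤ T')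
    (hdim : finrank k T = finrank k T') (hT : (T.map p).map φ.toLinearMap = T'.map p')
    (ψ : V →ₗ[k] V') (hinj : Set.InjOn ψ U) (hU : U.map ψ = U') (hcomm : ∀ u ∈ U, p' (ψ u) = φ (p u)) :
    ∃ χ : V →ₗ[k] V', (∀ u ∈ U, χ u = ψ u) ∧ Set.InjOn χ T ∧ T.map χ = T' ∧
      ∀ x ∈ T, p' (χ x) = φ (p x) := by
  let K : Submodule k V := T ⊓ LinearMap.ker p
  let K' : Submodule k V' := T' ⊓ LinearMap.ker p'
  obtain ⟨E, hE⟩ := Submodule.exists_isCompl (U ⊓ K)
  obtain ⟨E', hE'⟩ := Submodule.exists_isCompl (U' ⊓ K')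
  let Kc := E ⊓ K
  let Kc' := E' ⊓ K'
  have hKc : (U ⊓ K) ⊔ Kc = K := by
    rw [← sup_inf_assoc_of_le _ (inf_le_right : U ⊓ K ≤ K), hE.sup_eq_top, top_inf_eq]
  have hKc' : (U' ⊓ K') ⊔ Kc' = K' := by
    rw [← sup_inf_assoc_of_le _ (inf_le_right : U' ⊓ K' ≤ K'), hE'.sup_eq_top, top_inf_eq]
  have hd : ∀ x ∈ U, x ∈ Kc → x = 0 := fun x hx hx' =>
    (Submodule.disjoint_def.1 hE.disjoint) x ⟨hx, hx'.2⟩ hx'.1
  have hd' : ∀ x ∈ U', x ∈ Kc' → x = 0 := fun x hx hx' =>
    (Submodule.disjoint_def.1 hE'.disjoint) x ⟨hx, hx'.2⟩ hx'.1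
  have hmapU : (U ⊓ K).map ψ = U' ⊓ K' := by
    ext y
    constructor
    · rintro ⟨x, ⟨hxU, hxT, hxK⟩, rfl⟩
      have hy : ψ x ∈ U' := hU ▸ ⟨x, hxU, rfl⟩
      exact ⟨hy, hUT' hy, show p' (ψ x) = 0 by rw [hcomm x hxU, show p x = 0 from hxK, map_zero]⟩
    · rintro ⟨hyU, _, hyK⟩
      rw [← hU] at hyU
      obtain ⟨x, hx, rfl⟩ := hyU
      refine ⟨x, ⟨hx, hUT hx, ?_⟩, rfl⟩
      show p x = 0
      rw [← φ.map_eq_zero_iff, ← hcomm x hx]
      exact hyK
  have hdimK : finrank k K = finrank k K' := by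
    have h1 := finrank_map_add_inf_ker p T
    have h2 := finrank_map_add_inf_ker p' T'
    have h3 : finrank k (T.map p) = finrank k (T'.map p') := by
      rw [← hT, LinearEquiv.finrank_map_eq]
    show finrank k (T ⊓ LinearMap.ker p : Submodule k V) = finrank k (T' ⊓ LinearMap.ker p' : Submodule k V')
    omega
  have hdimKc : finrank k Kc = finrank k Kc' := by
    have h1 := Submodule.finrank_sup_add_finrank_inf_eq (U ⊓ K) Kc
    have h2 := Submodule.finrank_sup_add_finrank_inf_eq (U' ⊓ K') Kc'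
    have e1 : (U ⊓ K) ⊓ Kc = ⊥ := eq_bot_iff.2 fun x hx =>
      (Submodule.mem_bot k).2 (hd x hx.1.1 hx.2)
    have e2 : (U' ⊓ K') ⊓ Kc' = ⊥ := eq_bot_iff.2 fun x hx =>
      (Submodule.mem_bot k).2 (hd' x hx.1.1 hx.2)
    rw [hKc, e1, finrank_bot, add_zero] at h1
    rw [hKc', e2, finrank_bot, add_zero] at h2
    rw [← finrank_map_of_injOn ψ (U ⊓ K) (hinj.mono fun x hx => hx.1), hmapU] at h1
    omega
  obtain ⟨G₀, hG₀⟩ := Submodule.exists_isCompl (U ⊔ K)
  let D := G₀ ⊓ T
  have hUKT : U ⊔ K ≤ T := sup_le hUT inf_le_left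
  have hD : (U ⊔ K) ⊔ D = T := by
    rw [← sup_inf_assoc_of_le _ hUKT, hG₀.sup_eq_top, top_inf_eq]
  have hdD : ∀ x ∈ U ⊔ K, x ∈ D → x = 0 := fun x hx hx' =>
    (Submodule.disjoint_def.1 hG₀.disjoint) x hx hx'.1
  let κ : Kc ≃ₗ[k] Kc' := LinearEquiv.ofFinrankEq _ _ hdimKc
  obtain ⟨s, hs⟩ := LinearMap.exists_rightInverse_of_surjective (p'.domRestrict T').rangeRestrict
    (LinearMap.range_rangeRestrict _)
  let t : D →ₗ[k] LinearMap.range (p'.domRestrict T') :=
    (φ.toLinearMap.comp (p.comp D.subtype)).codRestrict _ (fun x => by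
      rw [LinearMap.range_domRestrict, ← hT]
      exact ⟨p x, ⟨x, x.2.2, rfl⟩, rfl⟩)
  let lD : D →ₗ[k] V' := T'.subtype.comp (s.comp t)
  have hlD : ∀ x : D, p' (lD x) = φ (p x) := fun x => by
    have h := LinearMap.congr_fun hs (t x)
    exact congrArg Subtype.val h
  let L : (U × Kc × D) →ₗ[k] V := U.subtype.coprod (Kc.subtype.coprod D.subtype)
  let G : (U × Kc × D) →ₗ[k] V' :=
    (ψ.comp U.subtype).coprod ((Kc'.subtype.comp κ.toLinearMap).coprod lD)
  have hKcK : ∀ x : Kc, (x : V) ∈ K := fun x => x.2.2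
  have hGinj : ∀ z, G z = 0 → z = 0 := by
    rintro ⟨u, c, x⟩ hz
    have hz' : ψ u + ((κ c : V') + lD x) = 0 := hz
    have h1 : p (u + x : V) = 0 := by
      have := congrArg p' hz'
      rw [map_add, map_add, hcomm u u.2, LinearMap.mem_ker.1 (κ c).2.2.2, hlD, zero_add, map_zero,
        ← map_add, ← map_add, φ.map_eq_zero_iff] at this
      exact this
    have hx0 : (x : V) = 0 := by
      refine hdD _ ?_ x.2
      have hK : (u + x : V) ∈ K := ⟨add_mem (hUT u.2) x.2.2, h1⟩
      rw [show (x : V) = (u + x : V) - u by abel]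
      exact sub_mem (Submodule.mem_sup_right hK) (Submodule.mem_sup_left u.2)
    have hx : x = 0 := Subtype.ext hx0
    subst hx
    rw [map_zero, add_zero] at hz'
    have hc0 : (κ c : V') = 0 := by
      refine hd' _ ?_ (κ c).2
      rw [show (κ c : V') = - ψ u from eq_neg_of_add_eq_zero_right hz']
      exact U'.neg_mem (hU ▸ ⟨u, u.2, rfl⟩)
    rw [hc0, add_zero] at hz'
    have hu : u = 0 := Subtype.ext (hinj u.2 U.zero_mem (by rw [hz']; exact (map_zero ψ).symm))
    have hc : c = 0 := κ.map_eq_zero_iff.1 (Subtype.ext hc0)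
    rw [hu, hc]; rfl
  have hLinj : Function.Injective L := by
    refine (injective_iff_map_eq_zero L).2 ?_
    rintro ⟨u, c, x⟩ hz
    have hz' : (u : V) + ((c : V) + x) = 0 := hz
    have hx0 : (x : V) = 0 := by
      refine hdD _ ?_ x.2
      rw [show (x : V) = -((u : V) + c) from eq_neg_of_add_eq_zero_right (by rw [← hz']; abel)]
      exact Submodule.neg_mem _ (add_mem (Submodule.mem_sup_left u.2) (Submodule.mem_sup_right (hKcK c)))
    rw [hx0, add_zero] at hz'
    have hu : (u : V) = 0 := hd _ u.2 (by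
      rw [show (u : V) = -(c : V) from eq_neg_of_add_eq_zero_left hz']; exact Kc.neg_mem c.2)
    rw [hu, zero_add] at hz'
    rw [show u = 0 from Subtype.ext hu, show c = 0 from Subtype.ext hz', show x = 0 from Subtype.ext hx0]
    rfl
  obtain ⟨Li, hLi⟩ := L.exists_leftInverse_of_injective (LinearMap.ker_eq_bot.2 hLinj)
  let χ := G.comp Li
  have hχ : ∀ z, χ (L z) = G z := fun z => congrArg G (LinearMap.congr_fun hLi z)
  have hsurj : ∀ x ∈ T, ∃ z, L z = x := by
    intro x hx
    rw [← hD] at hx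
    obtain ⟨y, hy, e, he, rfl⟩ := Submodule.mem_sup.1 hx
    obtain ⟨u, hu, q, hq, rfl⟩ := Submodule.mem_sup.1 hy
    rw [← hKc] at hq
    obtain ⟨u', hu', c, hc, rfl⟩ := Submodule.mem_sup.1 hq
    exact ⟨(⟨u + u', add_mem hu hu'.1⟩, ⟨c, hc⟩, ⟨e, he⟩), by
      show (u + u') + (c + e) = u + (u' + c) + e
      abel⟩
  have hinjT : Set.InjOn χ T := by
    intro a ha b hb hab
    obtain ⟨za, rfl⟩ := hsurj a ha
    obtain ⟨zb, rfl⟩ := hsurj b hb
    rw [hχ, hχ] at hab
    rw [sub_eq_zero.1 (hGinj (za - zb) (by rw [map_sub, hab, sub_self]))]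
  refine ⟨χ, fun u hu => ?_, hinjT, ?_, fun x hx => ?_⟩
  · have : L (⟨u, hu⟩, 0, 0) = u := by show u + ((0 : V) + 0) = u; abel
    rw [← this, hχ, this]
    show ψ u + (((κ 0 : Kc') : V') + lD 0) = ψ u
    rw [map_zero, map_zero, Submodule.coe_zero, add_zero, add_zero]
  · refine Submodule.eq_of_le_of_finrank_eq ?_ ((finrank_map_of_injOn χ T hinjT).trans hdim)
    rintro _ ⟨x, hx, rfl⟩
    obtain ⟨⟨u, c, e⟩, rfl⟩ := hsurj x hx
    rw [hχ]
    exact add_mem (hUT' (hU ▸ ⟨u, u.2, rfl⟩)) (add_mem (κ c).2.2.1 (s (t e)).2)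
  · obtain ⟨⟨u, c, e⟩, rfl⟩ := hsurj x hx
    rw [hχ]
    show p' (ψ u + ((κ c : V') + lD e)) = φ (p ((u : V) + ((c : V) + e)))
    rw [map_add, map_add, hcomm u u.2, LinearMap.mem_ker.1 (κ c).2.2.2, hlD]
    simp only [map_add, LinearMap.mem_ker.1 c.2.2.2, map_zero]

/-- Lifting an isomorphism compatible with flags. -/
theorem exists_lift (p : V →ₗ[k] W) (p' : V' →ₗ[k] W') (φ : W ≃ₗ[k] W') (n : ℕ)
    (F : ℕ → Submodule k V) (F' : ℕ → Submodule k V') (hmono : Monotone F) (hmono' : Monotone F')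
    (h0 : F 0 = ⊥) (h0' : F' 0 = ⊥) (htop : F n = ⊤) (htop' : F' n = ⊤)
    (hdim : ∀ i ≤ n, finrank k (F i) = finrank k (F' i))
    (hmap : ∀ i ≤ n, ((F i).map p).map φ.toLinearMap = (F' i).map p') :
    ∃ ψ : V ≃ₗ[k] V', (∀ i ≤ n, (F i).map ψ.toLinearMap = F' i) ∧ ∀ x, p' (ψ x) = φ (p x) := by
  have key : ∀ i ≤ n, ∃ ψ : V →ₗ[k] V', Set.InjOn ψ (F i) ∧
      (∀ x ∈ F i, p' (ψ x) = φ (p x)) ∧ ∀ l ≤ i, (F l).map ψ = F' l := by
    intro i hi
    induction i with
    | zero =>
      refine ⟨0, ?_, fun x hx => ?_, fun l hl => ?_⟩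
      · rw [h0]; intro a ha b hb _; rw [(Submodule.mem_bot k).1 ha, (Submodule.mem_bot k).1 hb]
      · rw [h0, Submodule.mem_bot] at hx; rw [hx, map_zero, map_zero, map_zero, map_zero]
      · rw [Nat.le_zero.1 hl, h0, h0', Submodule.map_bot]
    | succ i ih =>
      obtain ⟨ψ, hinj, hcomm, hF⟩ := ih (by omega)
      obtain ⟨χ, hext, hinj', hT, hcomm'⟩ := extend_step p p' φ (hmono i.le_succ) (hmono' i.le_succ)
        (hdim _ hi) (hmap _ hi) ψ hinj (hF i le_rfl) hcomm
      refine ⟨χ, hinj', hcomm', fun l hl => ?_⟩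
      rcases Nat.lt_or_eq_of_le hl with hl' | rfl
      · rw [← hF l (Nat.lt_succ_iff.1 hl')]
        ext y
        constructor
        · rintro ⟨x, hx, rfl⟩; exact ⟨x, hx, (hext x (hmono (Nat.lt_succ_iff.1 hl') hx)).symm⟩
        · rintro ⟨x, hx, rfl⟩; exact ⟨x, hx, hext x (hmono (Nat.lt_succ_iff.1 hl') hx)⟩
      · exact hT
  obtain ⟨ψ, hinj, hcomm, hF⟩ := key n le_rfl
  have hbij : Function.Bijective ψ := by
    refine ⟨fun a b h => hinj (htop ▸ trivial) (htop ▸ trivial) h, fun y => ?_⟩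
    have hy : y ∈ (F n).map ψ := by rw [hF n le_rfl, htop']; trivial
    obtain ⟨x, -, rfl⟩ := hy
    exact ⟨x, rfl⟩
  exact ⟨LinearEquiv.ofBijective ψ hbij, hF, fun x => hcomm x (htop ▸ trivial)⟩

omit [FiniteDimensional k V] [FiniteDimensional k W] in
theorem exists_rank_eq (C : Submodule k V) (E : Submodule k W) [FiniteDimensional k C]
    [FiniteDimensional k E] (δ : ℕ) (hC : δ ≤ finrank k C) (hE : δ ≤ finrank k E) :
    ∃ h : C →ₗ[k] W, LinearMap.range h ≤ E ∧ finrank k (LinearMap.range h) = δ := by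
  obtain ⟨v, hv⟩ := exists_linearIndependent_of_le_finrank hE
  let bC := Module.finBasis k C
  let a : C →ₗ[k] (Fin δ → k) := (LinearMap.funLeft k k (Fin.castLE hC)).comp bC.equivFun.toLinearMap
  have ha : Function.Surjective a :=
    (LinearMap.funLeft_surjective_of_injective k k _ (Fin.castLE_injective hC)).comp bC.equivFun.surjective
  let b : (Fin δ → k) →ₗ[k] W := E.subtype.comp (Fintype.linearCombination k v)
  have hb : Function.Injective b :=
    Subtype.val_injective.comp hv.fintypeLinearCombination_injective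
  refine ⟨b.comp a, ?_, ?_⟩
  · rintro _ ⟨x, rfl⟩; exact (Fintype.linearCombination k v (a x)).2
  · rw [LinearMap.range_comp_of_range_eq_top _ (LinearMap.range_eq_top.2 ha),
      LinearMap.finrank_range_of_inj hb, finrank_fin_fun]

/-- A map with prescribed ranks on a flag. -/
theorem exists_map (n : ℕ) (F : ℕ → Submodule k V) (hmono : Monotone F) (h0 : F 0 = ⊥) (b : ℕ → ℕ)
    (hb0 : b 0 = 0) (hb : ∀ i < n, b i ≤ b (i + 1) ∧ b (i + 1) + finrank k (F i) ≤ b i + finrank k (F (i + 1)))
    (hbW : ∀ i ≤ n, b i ≤ finrank k W) :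
    ∃ p : V →ₗ[k] W, ∀ i ≤ n, finrank k ((F i).map p) = b i := by
  suffices h : ∀ i ≤ n, ∃ p : V →ₗ[k] W, ∀ l ≤ i, finrank k ((F l).map p) = b l from h n le_rfl
  intro i hi
  induction i with
  | zero => exact ⟨0, fun l hl => by rw [Nat.le_zero.1 hl, h0, Submodule.map_bot, finrank_bot, hb0]⟩
  | succ i ih =>
    obtain ⟨p, hp⟩ := ih (by omega)
    obtain ⟨hb1, hb2⟩ := hb i (by omega)
    obtain ⟨G₀, hG₀⟩ := Submodule.exists_isCompl (F i)
    let C := G₀ ⊓ F (i + 1)
    have hFC : F i ⊔ C = F (i + 1) := by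
      rw [← sup_inf_assoc_of_le _ (hmono i.le_succ), hG₀.sup_eq_top, top_inf_eq]
    have hFC' : F i ⊓ C = ⊥ := eq_bot_iff.2 fun x hx =>
      (Submodule.mem_bot k).2 ((Submodule.disjoint_def.1 hG₀.disjoint) x hx.1 hx.2.1)
    have hCdim : b (i + 1) - b i ≤ finrank k C := by
      have h := Submodule.finrank_sup_add_finrank_inf_eq (F i) C
      rw [hFC, hFC', finrank_bot] at h
      omega
    obtain ⟨E, hE⟩ := Submodule.exists_isCompl ((F i).map p)
    have hEdim : b (i + 1) - b i ≤ finrank k E := by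
      have h := Submodule.finrank_add_eq_of_isCompl hE
      rw [hp i le_rfl] at h
      have := hbW (i + 1) hi
      omega
    obtain ⟨h, hh1, hh2⟩ := exists_rank_eq C E _ hCdim hEdim
    obtain ⟨r, hr⟩ := h.exists_extend
    let q : V →ₗ[k] W := p.comp ((F i).subtype.comp (Submodule.projectionOnto (F i) G₀ hG₀)) +
      r.comp (G₀.subtype.comp (Submodule.projectionOnto G₀ (F i) hG₀.symm))
    have hqF : ∀ x ∈ F i, q x = p x := by
      intro x hx
      show p ((Submodule.projectionOnto (F i) G₀ hG₀ x : F i) : V) +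
        r ((Submodule.projectionOnto G₀ (F i) hG₀.symm x : G₀) : V) = p x
      have e1 := Submodule.projectionOnto_apply_left hG₀ ⟨x, hx⟩
      have e2 := Submodule.projectionOnto_apply_right hG₀.symm ⟨x, hx⟩
      rw [e1, e2, Submodule.coe_zero, map_zero, add_zero]
    have hqC : ∀ x : C, q x = h x := by
      intro x
      show p ((Submodule.projectionOnto (F i) G₀ hG₀ x : F i) : V) +
        r ((Submodule.projectionOnto G₀ (F i) hG₀.symm x : G₀) : V) = h x
      have e1 := Submodule.projectionOnto_apply_left hG₀.symm ⟨x, x.2.1⟩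
      have e2 := Submodule.projectionOnto_apply_right hG₀ ⟨x, x.2.1⟩
      rw [e1, e2, Submodule.coe_zero, map_zero, zero_add]
      exact LinearMap.congr_fun hr x
    refine ⟨q, fun l hl => ?_⟩
    have hFi : ∀ l ≤ i, (F l).map q = (F l).map p := fun l hl => by
      ext y
      constructor
      · rintro ⟨x, hx, rfl⟩; exact ⟨x, hx, (hqF x (hmono hl hx)).symm⟩
      · rintro ⟨x, hx, rfl⟩; exact ⟨x, hx, hqF x (hmono hl hx)⟩
    rcases Nat.lt_or_eq_of_le hl with hl' | rfl
    · rw [hFi l (Nat.lt_succ_iff.1 hl')]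
      exact hp l (Nat.lt_succ_iff.1 hl')
    · have hC : C.map q = LinearMap.range h := by
        ext y
        constructor
        · rintro ⟨x, hx, rfl⟩; exact ⟨⟨x, hx⟩, (hqC ⟨x, hx⟩).symm⟩
        · rintro ⟨x, rfl⟩; exact ⟨x, x.2, hqC x⟩
      have hdisj : (F i).map p ⊓ LinearMap.range h = ⊥ := eq_bot_iff.2 fun y hy =>
        (Submodule.mem_bot k).2 ((Submodule.disjoint_def.1 hE.disjoint) y hy.1 (hh1 hy.2))
      have hs := Submodule.finrank_sup_add_finrank_inf_eq ((F i).map p) (LinearMap.range h)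
      rw [hdisj, finrank_bot, hp i le_rfl, hh2] at hs
      rw [← hFC, Submodule.map_sup, hFi i le_rfl, hC]
      omega

end lin

section chain

open W4c1btstackcounts Matrix

variable {k : Type*} [Field k] {d : ℕ → ℕ}

/-- `flag f j i`: the image of the `i`-th space in the `j`-th. -/
def flag (f : (i : ℕ) → Matrix (Fin (d (i + 1))) (Fin (d i)) k) :
    (j : ℕ) → ℕ → Submodule k (Fin (d j) → k)
  | 0, _ => ⊥
  | j + 1, i => if i ≤ j then (flag f j i).map (toLin' (f j)) else ⊤

variable (f : (i : ℕ) → Matrix (Fin (d (i + 1))) (Fin (d i)) k)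

theorem flag_succ_of_le {j i : ℕ} (h : i ≤ j) :
    flag f (j + 1) i = (flag f j i).map (toLin' (f j)) := by simp [flag, h]

theorem flag_zero (j : ℕ) : flag f j 0 = ⊥ := by
  induction j with
  | zero => rfl
  | succ j ih => rw [flag_succ_of_le f (Nat.zero_le j), ih, Submodule.map_bot]

theorem flag_top {j i : ℕ} (hj : 1 ≤ j) (h : j ≤ i) : flag f j i = ⊤ := by
  obtain ⟨j, rfl⟩ := Nat.exists_eq_add_of_le' hj
  simp [flag, show ¬ i ≤ j by omega]

theorem flag_mono (j : ℕ) : Monotone (flag f j) := by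
  induction j with
  | zero => exact fun a b _ => le_refl _
  | succ j ih =>
    intro a b hab
    by_cases hb : b ≤ j
    · rw [flag_succ_of_le f hb, flag_succ_of_le f (hab.trans hb)]
      exact Submodule.map_mono (ih hab)
    · rw [flag_top f (i := b) (by omega) (by omega)]
      exact le_top

theorem iterImage_eq (i n : ℕ) (hi : 1 ≤ i) : iterImage f i n = flag f (i + n) i := by
  induction n with
  | zero => exact (flag_top f (by omega) (by omega)).symm
  | succ n ih =>
    show (iterImage f i n).map (toLin' (f (i + n))) = _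
    rw [ih]
    exact (flag_succ_of_le f (by omega)).symm

theorem rankArray_eq {i j : ℕ} (hi : 1 ≤ i) (hij : i ≤ j) :
    rankArray f i j = finrank k (flag f j i) := by
  obtain ⟨n, rfl⟩ := Nat.exists_eq_add_of_le hij
  rw [rankArray, if_pos (by omega), Nat.add_sub_cancel_left, iterImage_eq f i n hi]

theorem flag_congr (f' : (i : ℕ) → Matrix (Fin (d (i + 1))) (Fin (d i)) k) (j : ℕ)
    (h : ∀ l, 1 ≤ l → l < j → f l = f' l) (i : ℕ) : flag f j i = flag f' j i := by
  induction j generalizing i with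
  | zero => rfl
  | succ j ih =>
    by_cases hi : i ≤ j
    · rw [flag_succ_of_le f hi, flag_succ_of_le f' hi, ih (fun l h1 h2 => h l h1 (by omega))]
      rcases Nat.eq_zero_or_pos j with hj | hj
      · subst hj
        rw [show flag f' 0 i = ⊥ from rfl, Submodule.map_bot, Submodule.map_bot]
      · rw [h j hj (by omega)]
    · simp [flag, hi]

/-- The equivalence attached to an invertible matrix. -/
noncomputable def glEquiv {n : ℕ} (g : Matrix.GeneralLinearGroup (Fin n) k) :
    (Fin n → k) ≃ₗ[k] (Fin n → k) :=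
  LinearEquiv.ofLinearMap (toLin' (g : Matrix (Fin n) (Fin n) k))
    (toLin' ((g⁻¹ : Matrix.GeneralLinearGroup (Fin n) k) : Matrix (Fin n) (Fin n) k))
    (by rw [← toLin'_mul, Units.mul_inv, toLin'_one])
    (by rw [← toLin'_mul, Units.inv_mul, toLin'_one])

/-- The invertible matrix of an equivalence. -/
noncomputable def glMatrix {n : ℕ} (e : (Fin n → k) ≃ₗ[k] (Fin n → k)) :
    Matrix.GeneralLinearGroup (Fin n) k where
  val := LinearMap.toMatrix' e.toLinearMap
  inv := LinearMap.toMatrix' e.symm.toLinearMap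
  val_inv := by rw [← LinearMap.toMatrix'_comp, LinearEquiv.comp_symm, LinearMap.toMatrix'_id]
  inv_val := by rw [← LinearMap.toMatrix'_comp, LinearEquiv.symm_comp, LinearMap.toMatrix'_id]

theorem flag_conj (g : (j : ℕ) → Matrix.GeneralLinearGroup (Fin (d j)) k) (j i : ℕ) :
    flag (conj g f) j i = (flag f j i).map (glEquiv (g j)).toLinearMap := by
  induction j generalizing i with
  | zero => exact (Submodule.map_bot _).symm
  | succ j ih =>
    by_cases hi : i ≤ j
    · rw [flag_succ_of_le _ hi, flag_succ_of_le _ hi, ih, ← Submodule.map_comp, ← Submodule.map_comp]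
      congr 1
      show (toLin' _).comp (toLin' _) = (toLin' _).comp (toLin' _)
      rw [conj, ← toLin'_mul, ← toLin'_mul, Matrix.mul_assoc, ← Units.val_mul, inv_mul_cancel, Units.val_one,
        Matrix.mul_one]
    · simp [flag, hi, Submodule.map_top, LinearEquiv.range]

theorem part1 (g : (j : ℕ) → Matrix.GeneralLinearGroup (Fin (d j)) k) {i j : ℕ} (hi : 1 ≤ i)
    (hij : i ≤ j) : rankArray (conj g f) i j = rankArray f i j := by
  rw [rankArray_eq _ hi hij, rankArray_eq _ hi hij, flag_conj, LinearEquiv.finrank_map_eq]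

theorem part2 (r : ℕ) : IsRankArray d r (rankArray f) := by
  refine ⟨fun j hj _ => ?_, fun i j hi hij _ => ?_, fun i j hi hij _ => ?_, fun i j hi hij _ => ?_⟩
  · rw [rankArray_eq f hj le_rfl, flag_top f hj le_rfl, finrank_top, finrank_fin_fun]
  · rw [rankArray_eq f hi hij.le, rankArray_eq f (by omega) hij]
    exact Submodule.finrank_mono (flag_mono f j i.le_succ)
  · rw [rankArray_eq f hi (by omega), rankArray_eq f hi hij, flag_succ_of_le f hij]
    exact Submodule.finrank_map_le _ _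
  · rw [rankArray_eq f (by omega) (by omega), rankArray_eq f (by omega) (by omega),
      rankArray_eq f (by omega) hij, rankArray_eq f (by omega) (by omega),
      flag_succ_of_le f hij, flag_succ_of_le f (by omega)]
    have h1 := finrank_map_add_inf_ker (toLin' (f j)) (flag f j i)
    have h2 := finrank_map_add_inf_ker (toLin' (f j)) (flag f j (i - 1))
    have h3 := Submodule.finrank_mono (inf_le_inf_right (LinearMap.ker (toLin' (f j)))
      (flag_mono f j (Nat.sub_le i 1)))
    omega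

theorem part3 (r : ℕ) (f' : (i : ℕ) → Matrix (Fin (d (i + 1))) (Fin (d i)) k)
    (h : ∀ i j : ℕ, 1 ≤ i → i ≤ j → j ≤ r → rankArray f i j = rankArray f' i j) :
    ∃ g : (j : ℕ) → Matrix.GeneralLinearGroup (Fin (d j)) k,
      ∀ i : ℕ, 1 ≤ i → i + 1 ≤ r → conj g f i = f' i := by
  have hdim : ∀ j, j ≤ r → ∀ i, i ≤ j → finrank k (flag f j i) = finrank k (flag f' j i) := by
    intro j hj i hi
    rcases Nat.eq_zero_or_pos i with rfl | hi0
    · rw [flag_zero, flag_zero]
    · rw [← rankArray_eq f hi0 hi, ← rankArray_eq f' hi0 hi]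
      exact h i j hi0 hi hj
  have key : ∀ j, 1 ≤ j → j ≤ r → ∀ φ : (Fin (d j) → k) ≃ₗ[k] (Fin (d j) → k),
      (∀ i ≤ j, (flag f j i).map φ.toLinearMap = flag f' j i) →
      ∃ g : (l : ℕ) → ((Fin (d l) → k) ≃ₗ[k] (Fin (d l) → k)), g j = φ ∧
        ∀ l, 1 ≤ l → l < j → ∀ x, toLin' (f' l) (g l x) = g (l + 1) (toLin' (f l) x) := by
    intro j hj
    induction j, hj using Nat.le_induction with
    | base =>
      intro _ φ _
      exact ⟨Function.update (fun _ => LinearEquiv.refl k _) 1 φ, Function.update_self .., fun l h1 h2 => by omega⟩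
    | succ j hj ih =>
      intro hjr φ hφ
      obtain ⟨ψ, hψ, hcomm⟩ := exists_lift (toLin' (f j)) (toLin' (f' j)) φ j (flag f j) (flag f' j)
        (flag_mono f j) (flag_mono f' j) (flag_zero f j) (flag_zero f' j) (flag_top f hj le_rfl)
        (flag_top f' hj le_rfl) (hdim j (by omega))
        (fun i hi => by rw [← flag_succ_of_le f hi, ← flag_succ_of_le f' hi]; exact hφ i (by omega))
      obtain ⟨g, hg, hgc⟩ := ih (by omega) ψ hψ
      refine ⟨Function.update g (j + 1) φ, Function.update_self .., fun l h1 h2 x => ?_⟩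
      rw [Function.update_of_ne (show l ≠ j + 1 by omega)]
      rcases Nat.lt_or_eq_of_le (Nat.lt_succ_iff.1 h2) with hl | rfl
      · rw [Function.update_of_ne (show l + 1 ≠ j + 1 by omega)]
        exact hgc l h1 hl x
      · rw [Function.update_self, hg]
        exact hcomm x
  rcases Nat.eq_zero_or_pos r with hr | hr
  · exact ⟨fun _ => 1, fun i h1 h2 => by omega⟩
  obtain ⟨φ, hφ, -⟩ := exists_lift (0 : (Fin (d r) → k) →ₗ[k] k) (0 : (Fin (d r) → k) →ₗ[k] k)
    (LinearEquiv.refl k k) r (flag f r) (flag f' r) (flag_mono f r) (flag_mono f' r) (flag_zero f r)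
    (flag_zero f' r) (flag_top f hr le_rfl) (flag_top f' hr le_rfl) (hdim r le_rfl)
    (fun i _ => by rw [Submodule.map_zero, Submodule.map_zero, Submodule.map_bot])
  obtain ⟨g, -, hgc⟩ := key r hr le_rfl φ hφ
  refine ⟨fun j => glMatrix (g j), fun i h1 h2 => ?_⟩
  apply (Matrix.toLin' (R := k)).injective
  refine LinearMap.ext fun x => ?_
  show toLin' (LinearMap.toMatrix' (g (i + 1)).toLinearMap * f i *
    LinearMap.toMatrix' (g i).symm.toLinearMap) x = _
  rw [toLin'_mul, toLin'_mul, toLin'_toMatrix', toLin'_toMatrix']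
  show g (i + 1) (toLin' (f i) ((g i).symm x)) = toLin' (f' i) x
  rw [← hgc i h1 h2, LinearEquiv.apply_symm_apply]

theorem part4 (r : ℕ) (a : ℕ → ℕ → ℕ) (ha : IsRankArray d r a) :
    ∃ f : (i : ℕ) → Matrix (Fin (d (i + 1))) (Fin (d i)) k,
      ∀ i j : ℕ, 1 ≤ i → i ≤ j → j ≤ r → rankArray f i j = a i j := by
  obtain ⟨hdiag, hmono, hdec, hquad⟩ := ha
  suffices h : ∀ j, j ≤ r → ∃ f : (i : ℕ) → Matrix (Fin (d (i + 1))) (Fin (d i)) k,
      ∀ l, l ≤ j → ∀ i, 1 ≤ i → i ≤ l → finrank k (flag f l i) = a i l by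
    obtain ⟨f, hf⟩ := h r le_rfl
    exact ⟨f, fun i j hi hij hj => by rw [rankArray_eq f hi hij]; exact hf j hj i hi hij⟩
  intro j
  induction j with
  | zero => exact fun _ => ⟨fun _ => 0, fun l hl i hi hil => by omega⟩
  | succ j ih =>
    intro hj
    obtain ⟨f, hf⟩ := ih (by omega)
    let b : ℕ → ℕ := fun i => if i = 0 then 0 else a i (j + 1)
    have hdimF : ∀ i, 1 ≤ i → i ≤ j → finrank k (flag f j i) = a i j := fun i => hf j le_rfl i
    obtain ⟨p, hp⟩ := exists_map (W := Fin (d (j + 1)) → k) j (flag f j) (flag_mono f j) (flag_zero f j) b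
      (if_pos rfl) (fun i hi => by
        simp only [b, Nat.succ_ne_zero, if_false]
        rw [hdimF (i + 1) (by omega) (by omega)]
        rcases Nat.eq_zero_or_pos i with rfl | hi0
        · rw [if_pos rfl, flag_zero, finrank_bot]
          exact ⟨Nat.zero_le _, by simpa using hdec 1 j le_rfl (by omega) (by omega)⟩
        · rw [if_neg (by omega), hdimF i hi0 (by omega)]
          refine ⟨hmono i (j + 1) hi0 (by omega) hj, ?_⟩
          have := hquad (i + 1) j (by omega) (by omega) (by omega)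
          rw [Nat.add_sub_cancel] at this
          omega) (fun i hi => by
        rw [finrank_fin_fun]
        simp only [b]
        rcases Nat.eq_zero_or_pos i with rfl | hi0
        · simp
        · rw [if_neg (by omega), ← hdiag (j + 1) (by omega) hj]
          have key : ∀ m, i ≤ m → m ≤ j + 1 → a i (j + 1) ≤ a m (j + 1) := by
            intro m hm
            induction m, hm using Nat.le_induction with
            | base => exact fun _ => le_rfl
            | succ m hm ih => exact fun hm' => (ih (by omega)).trans (hmono m (j + 1) (by omega) (by omega) hj)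
          exact key (j + 1) (by omega) le_rfl)
    refine ⟨Function.update f j (LinearMap.toMatrix' p), fun l hl i hi hil => ?_⟩
    rcases Nat.lt_or_eq_of_le hl with hl' | rfl
    · rw [flag_congr _ f l (fun m _ hm => Function.update_of_ne (by omega) ..)]
      exact hf l (by omega) i hi hil
    · rcases Nat.lt_or_eq_of_le hil with hi' | rfl
      · rw [flag_succ_of_le _ (by omega), Function.update_self, toLin'_toMatrix',
          flag_congr _ f j (fun m _ hm => Function.update_of_ne (by omega) ..)]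
        exact (hp i (by omega)).trans (if_neg (by omega))
      · rw [flag_top _ (by omega) le_rfl, finrank_top, finrank_fin_fun, hdiag (j + 1) (by omega) hj]

end chain

end RankArrayLib
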